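import Cfsg.Agent.Hall.DPiDirect

set_option autoImplicit false

/-! Nilpotent minimal covers and abelian Sylow subgroups. -/

namespace CfsgLib.NilCover

variable {G : Type*} [Group G] [Finite G] (𝓐 : Finset (Subgroup G))

/-- Hypothesis: a nilpotent cover of least cardinality. -/
structure MinCover : Prop where
  proper : ∀ A ∈ 𝓐, A ≠ ⊤
  cover : ∀ g : G, ∃ A ∈ 𝓐, g ∈ A
  minimal : ∀ 𝓑 : Finset (Subgroup G), (∀ A ∈ 𝓑, A ≠ ⊤) ∧ (∀ g : G, ∃ A ∈ 𝓑, g ∈ A) → 𝓐.card ≤ 𝓑.card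
  nilp : ∀ A ∈ 𝓐, Group.IsNilpotent ↥A

variable {𝓐}

/-- A proper subgroup contains at most one member. -/
theorem MinCover.unique_le (h : MinCover 𝓐) {M : Subgroup G} (hM : M ≠ ⊤) {A B : Subgroup G}
    (hA : A ∈ 𝓐) (hB : B ∈ 𝓐) (hAM : A ≤ M) (hBM : B ≤ M) : A = B := by
  classical
  by_contra hne
  have h1 := h.minimal (insert M ((𝓐.erase A).erase B)) ⟨?_, ?_⟩
  · have h2 := Finset.card_insert_le M ((𝓐.erase A).erase B)
    rw [Finset.card_erase_of_mem (Finset.mem_erase.2 ⟨Ne.symm hne, hB⟩), Finset.card_erase_of_mem hA] at h2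
    have h3 : ({A, B} : Finset (Subgroup G)).card ≤ 𝓐.card := Finset.card_le_card (by
      intro x hx
      rcases Finset.mem_insert.1 hx with rfl | hx
      · exact hA
      · rw [Finset.mem_singleton.1 hx]; exact hB)
    rw [Finset.card_pair hne] at h3
    omega
  · intro C hC
    rcases Finset.mem_insert.1 hC with rfl | hC
    · exact hM
    · exact h.proper C (Finset.mem_of_mem_erase (Finset.mem_of_mem_erase hC))
  · intro g
    obtain ⟨C, hC, hg⟩ := h.cover g
    by_cases hCA : C = A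
    · exact ⟨M, Finset.mem_insert_self _ _, hAM (hCA ▸ hg)⟩
    by_cases hCB : C = B
    · exact ⟨M, Finset.mem_insert_self _ _, hBM (hCB ▸ hg)⟩
    exact ⟨C, Finset.mem_insert_of_mem (Finset.mem_erase.2 ⟨hCB, Finset.mem_erase.2 ⟨hCA, hC⟩⟩), hg⟩

variable {p : ℕ} [Fact p.Prime]

theorem centralizer_ne_top (hZ : Subgroup.center G = ⊥) {z : G} (hz : z ≠ 1) :
    Subgroup.centralizer ({z} : Set G) ≠ ⊤ := by
  intro h
  apply hz
  have hc : z ∈ Subgroup.center G := Subgroup.mem_center_iff.2 fun g =>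
    Subgroup.mem_centralizer_singleton_iff.1 (h ▸ Subgroup.mem_top g : g ∈ Subgroup.centralizer ({z} : Set G))
  rw [hZ] at hc
  exact Subgroup.mem_bot.1 hc

/-- A member containing a `p`-element centralizes it. -/
theorem MinCover.le_centralizer (h : MinCover 𝓐) (P : Sylow p G) (hab : IsMulCommutative ↥(P : Subgroup G))
    {z : G} (hz : ∃ k, orderOf z = p ^ k) {B : Subgroup G} (hB : B ∈ 𝓐) (hzB : z ∈ B) :
    B ≤ Subgroup.centralizer ({z} : Set G) := by
  haveI := h.nilp B hB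
  intro b hb
  rw [Subgroup.mem_centralizer_singleton_iff]
  obtain ⟨a, c, hac, -, ⟨k, hk⟩, hc, -, -⟩ := Transfer.exists_pPart_mul (p := p) (⟨b, hb⟩ : ↥B)
  obtain ⟨i, hi⟩ := hz
  have hi' : orderOf (⟨z, hzB⟩ : ↥B) = p ^ i := by rw [← Subgroup.orderOf_coe]; exact hi
  have h1 := CfsgLib.Hall.DPi.commute_of_coprime_orders hi' hc
  have h2 : (⟨z, hzB⟩ : ↥B) * a = a * ⟨z, hzB⟩ := by
    let S : Sylow p ↥B := default
    haveI : (S : Subgroup ↥B).Normal   := CfsgLib.Hall.NormComplement.sylow_normal_of_nilpotent inferInstance p S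
    have hzS : (⟨z, hzB⟩ : ↥B) ∈ (S : Subgroup ↥B) :=
      CfsgLib.Hall.sylow_le_of_normal_not_dvd (S : Subgroup ↥B) S.not_dvd_index
        (IsPGroup.of_card (n := i) (by rw [Nat.card_zpowers, hi'])) (Subgroup.mem_zpowers _)
    have haS : a ∈ (S : Subgroup ↥B) :=
      CfsgLib.Hall.sylow_le_of_normal_not_dvd (S : Subgroup ↥B) S.not_dvd_index
        (IsPGroup.of_card (n := k) (by rw [Nat.card_zpowers, hk])) (Subgroup.mem_zpowers _)
    obtain ⟨T, hT⟩ := IsPGroup.exists_le_sylow (S.2.map B.subtype)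
    obtain ⟨g, hg⟩ := MulAction.exists_smul_eq G P T
    have hcommT : ∀ x ∈ (T : Subgroup G), ∀ y ∈ (T : Subgroup G), x * y = y * x := by
      intro x hx y hy
      have hmem : ∀ w ∈ (T : Subgroup G), g⁻¹ * w * g ∈ (P : Subgroup G) := by
        intro w hw
        rw [← hg, Sylow.coe_subgroup_smul] at hw
        rw [Subgroup.mem_smul_pointwise_iff_exists] at hw
        obtain ⟨v, hv, rfl⟩ := hw
        simpa [mul_assoc] using hv
      have := congrArg Subtype.val (hab.is_comm.comm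
        (⟨_, hmem x hx⟩ : ↥(P : Subgroup G)) ⟨_, hmem y hy⟩)
      simp only [Subgroup.coe_mul] at this
      calc x * y = g * ((g⁻¹ * x * g) * (g⁻¹ * y * g)) * g⁻¹ := by group
        _ = g * ((g⁻¹ * y * g) * (g⁻¹ * x * g)) * g⁻¹ := by rw [this]
        _ = y * x := by group
    exact Subtype.ext (hcommT z (hT ⟨_, hzS, rfl⟩) a (hT ⟨_, haS, rfl⟩))
  have : (⟨b, hb⟩ : ↥B) * ⟨z, hzB⟩ = ⟨z, hzB⟩ * ⟨b, hb⟩ := by
    rw [hac, mul_assoc, ← h1, ← mul_assoc, ← h2, mul_assoc]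
  exact congrArg Subtype.val this

theorem MinCover.member_unique (h : MinCover 𝓐) (hZ : Subgroup.center G = ⊥) (P : Sylow p G)
    (hab : IsMulCommutative ↥(P : Subgroup G)) {z : G} (hz : ∃ k, orderOf z = p ^ k) (hz1 : z ≠ 1)
    {A B : Subgroup G} (hA : A ∈ 𝓐) (hB : B ∈ 𝓐) (hzA : z ∈ A) (hzB : z ∈ B) : A = B :=
  h.unique_le (centralizer_ne_top hZ hz1) hA hB (h.le_centralizer P hab hz hA hzA)
    (h.le_centralizer P hab hz hB hzB)

/-- If `P` is cyclic or not elementary abelian its centralizer is the only member meeting it. -/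
theorem MinCover.exists_member (h : MinCover 𝓐) (hZ : Subgroup.center G = ⊥) (P : Sylow p G)
    (hab : IsMulCommutative ↥(P : Subgroup G)) (hP1 : (P : Subgroup G) ≠ ⊥)
    (hP : IsCyclic ↥(P : Subgroup G) ∨ ∃ x ∈ (P : Subgroup G), x ^ p ≠ 1) :
    ∃ A ∈ 𝓐, Subgroup.centralizer ((P : Subgroup G) : Set G) = A ∧ (P : Subgroup G) ≤ A ∧
      ∀ z ∈ (P : Subgroup G), z ≠ 1 → ∀ B ∈ 𝓐, z ∈ B → B = A := by
  have hord : ∀ z ∈ (P : Subgroup G), ∃ k, orderOf z = p ^ k := fun z hz => by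
    obtain ⟨k, hk⟩ := IsPGroup.iff_orderOf.1 P.isPGroup' ⟨z, hz⟩
    exact ⟨k, by rw [← hk, ← Subgroup.orderOf_coe]⟩
  have hcomm : ∀ x ∈ (P : Subgroup G), ∀ y ∈ (P : Subgroup G), Commute x y := fun x hx y hy =>
    congrArg Subtype.val (hab.is_comm.comm (⟨x, hx⟩ : ↥(P : Subgroup G)) ⟨y, hy⟩)
  obtain ⟨A, hA, hPA⟩ : ∃ A ∈ 𝓐, (P : Subgroup G) ≤ A := by
    rcases hP with hc | ⟨x, hx, hxp⟩
    · obtain ⟨⟨g, hg⟩, hgen⟩ := hc.exists_generator
      obtain ⟨A, hA, hgA⟩ := h.cover g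
      refine ⟨A, hA, fun y hy => ?_⟩
      obtain ⟨m, hm⟩ := Subgroup.mem_zpowers_iff.1 (hgen ⟨y, hy⟩)
      have hm' : g ^ m = y := congrArg Subtype.val hm
      exact hm' ▸ zpow_mem hgA m
    · obtain ⟨A, hA, hxA⟩ := h.cover x
      refine ⟨A, hA, ?_⟩
      have hxp' : x ^ p ∈ (P : Subgroup G) := pow_mem hx p
      have hkey : ∀ y ∈ (P : Subgroup G), y ^ p = 1 → y ∈ A := by
        intro y hy hyp
        obtain ⟨B, hB, hxy⟩ := h.cover (x * y)
        have hpow : (x * y) ^ p = x ^ p := by rw [(hcomm x hx y hy).mul_pow, hyp, mul_one]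
        have hBA := h.member_unique hZ P hab (hord _ hxp') hxp hB hA (hpow ▸ pow_mem hxy p) (pow_mem hxA p)
        subst hBA
        simpa using mul_mem (inv_mem hxA) hxy
      intro y hy
      by_cases hy1 : y = 1
      · rw [hy1]; exact one_mem _
      obtain ⟨k, hk⟩ := hord y hy
      have hk0 : k ≠ 0 := by rintro rfl; rw [pow_zero, orderOf_eq_one_iff] at hk; exact hy1 hk
      set y' := y ^ p ^ (k - 1) with hy'
      have hy'p : y' ^ p = 1 := by
        rw [hy', ← pow_mul, ← pow_succ, show k - 1 + 1 = k by omega, ← hk, pow_orderOf_eq_one]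
      have hy'1 : y' ≠ 1 := by
        intro h1
        have h2 := orderOf_dvd_of_pow_eq_one h1
        rw [hk] at h2
        have := Nat.le_of_dvd (pow_pos (Fact.out : p.Prime).pos _) h2
        have := Nat.pow_lt_pow_right (Fact.out : p.Prime).one_lt (show k - 1 < k by omega)
        omega
      obtain ⟨B, hB, hyB⟩ := h.cover y
      have hBA := h.member_unique hZ P hab (hord _ (pow_mem hy _)) hy'1 hB hA (pow_mem hyB _)
        (hkey y' (pow_mem hy _) hy'p)
      exact hBA ▸ hyB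
  have huniq : ∀ z ∈ (P : Subgroup G), z ≠ 1 → ∀ B ∈ 𝓐, z ∈ B → B = A := fun z hz hz1 B hB hzB =>
    h.member_unique hZ P hab (hord z hz) hz1 hB hA hzB (hPA hz)
  refine ⟨A, hA, le_antisymm ?_ ?_, hPA, huniq⟩
  · intro g hg
    obtain ⟨a, b, rfl, hab', ⟨k, hk⟩, hb, haz, hbz⟩ := Transfer.exists_pPart_mul (p := p) g
    have hcen : ∀ y ∈ Subgroup.zpowers (a * b), ∀ x ∈ (P : Subgroup G), x * y = y * x := fun y hy x hx =>
      Subgroup.mem_centralizer_iff.1 (Subgroup.zpowers_le.2 hg hy) x hx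
    have haP : a ∈ (P : Subgroup G) := by
      have hnorm : Subgroup.zpowers a ≤ Subgroup.normalizer ((P : Subgroup G) : Set G) :=
        (Subgroup.zpowers_le.2 (Subgroup.centralizer_le_normalizer _
          (Subgroup.mem_centralizer_iff.2 (hcen a haz))))
      have hp : IsPGroup p ↥(Subgroup.zpowers a ⊔ (P : Subgroup G)) :=
        IsPGroup.to_sup_of_normal_right' (IsPGroup.of_card (n := k) (by rw [Nat.card_zpowers, hk]))
          P.isPGroup' hnorm
      have := P.3 hp le_sup_right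
      exact this ▸ Subgroup.mem_sup_left (Subgroup.mem_zpowers a)
    obtain ⟨z, hz1⟩ := (Subgroup.ne_bot_iff_exists_ne_one).1 hP1
    have hz1' : (z : G) ≠ 1 := fun h' => hz1 (Subtype.ext h')
    refine mul_mem (hPA haP) ?_
    obtain ⟨B, hB, hzb⟩ := h.cover ((z : G) * b)
    have hcz : Commute (z : G) b := hcen b hbz z z.2
    -- a power of `z * b` is `z`
    obtain ⟨i, hi⟩ := hord (z : G) z.2
    have hzB : (z : G) ∈ B := by
      have hcop : (orderOf b).Coprime (orderOf (z : G)) := by rw [hi]; exact hb.pow_right i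
      obtain ⟨m, hm⟩ := exists_pow_eq_self_of_coprime (n := orderOf b) (x := (z : G)) hcop
      have h2 : ((z : G) * b) ^ orderOf b = (z : G) ^ orderOf b := by
        rw [hcz.mul_pow, pow_orderOf_eq_one, mul_one]
      rw [← hm, ← h2]
      exact pow_mem (pow_mem hzb _) m
    have hBA := huniq z z.2 hz1' B hB hzB
    subst hBA
    simpa using mul_mem (inv_mem hzB) hzb
  · intro a ha
    rw [Subgroup.mem_centralizer_iff]
    intro x hx
    exact (Subgroup.mem_centralizer_singleton_iff.1 (h.le_centralizer P hab (hord x hx) hA (hPA hx) ha)).symm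

theorem MinCover.le_normalizer (h : MinCover 𝓐) (hZ : Subgroup.center G = ⊥) (P : Sylow p G)
    (hab : IsMulCommutative ↥(P : Subgroup G)) (hP1 : (P : Subgroup G) ≠ ⊥)
    (hP : IsCyclic ↥(P : Subgroup G) ∨ ∃ x ∈ (P : Subgroup G), x ^ p ≠ 1)
    {M : Subgroup G} (hM : M ≠ ⊤) (hCM : Subgroup.centralizer ((P : Subgroup G) : Set G) ≤ M) :
    M ≤ Subgroup.normalizer ((P : Subgroup G) : Set G) := by
  obtain ⟨A, hA, hCA, hPA, -⟩ := h.exists_member hZ P hab hP1 hP
  intro m hm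
  have hQ1 : ((m • P : Sylow p G) : Subgroup G) ≠ ⊥ := fun hb => hP1 (by
    have h2 := Nat.card_congr (Sylow.equiv (m • P) P).toEquiv
    rw [hb, Subgroup.card_bot] at h2
    exact Subgroup.eq_bot_of_card_eq _ h2.symm)
  have hmem : ∀ x, x ∈ ((m • P : Sylow p G) : Subgroup G) → ∃ y ∈ (P : Subgroup G), x = m * y * m⁻¹ := by
    intro x hx
    rw [Sylow.coe_subgroup_smul, Subgroup.mem_smul_pointwise_iff_exists] at hx
    obtain ⟨y, hy, rfl⟩ := hx
    exact ⟨y, hy, rfl⟩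
  have habQ : IsMulCommutative ↥((m • P : Sylow p G) : Subgroup G) := ⟨⟨fun x y => by
    obtain ⟨x', hx', hx⟩ := hmem x x.2
    obtain ⟨y', hy', hy⟩ := hmem y y.2
    have := congrArg Subtype.val (hab.is_comm.comm (⟨x', hx'⟩ : ↥(P : Subgroup G)) ⟨y', hy'⟩)
    simp only [Subgroup.coe_mul] at this
    refine Subtype.ext ?_
    simp only [Subgroup.coe_mul, hx, hy]
    calc m * x' * m⁻¹ * (m * y' * m⁻¹) = m * (x' * y') * m⁻¹ := by group
      _ = m * (y' * x') * m⁻¹ := by rw [this]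
      _ = _ := by group⟩⟩
  have hQ : IsCyclic ↥((m • P : Sylow p G) : Subgroup G) ∨
      ∃ x ∈ ((m • P : Sylow p G) : Subgroup G), x ^ p ≠ 1 := by
    rcases hP with hc | ⟨x, hx, hxp⟩
    · exact Or.inl ((Sylow.equiv P (m • P)).isCyclic.1 hc)
    · refine Or.inr ⟨m * x * m⁻¹, ?_, fun h' => hxp ?_⟩
      · rw [Sylow.coe_subgroup_smul, Subgroup.mem_smul_pointwise_iff_exists]
        exact ⟨x, hx, rfl⟩
      · rw [conj_pow, conj_eq_one_iff] at h'; exact h'
  obtain ⟨B, hB, hCB, hQB, -⟩ := h.exists_member hZ (m • P) habQ hQ1 hQ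
  have hBM : B ≤ M := by
    rw [← hCB]
    intro c hc
    have hc' : m⁻¹ * c * m ∈ Subgroup.centralizer ((P : Subgroup G) : Set G) := by
      rw [Subgroup.mem_centralizer_iff]
      intro y hy
      have h2 := Subgroup.mem_centralizer_iff.1 hc (m * y * m⁻¹) (by
        show m * y * m⁻¹ ∈ ((m • P : Sylow p G) : Subgroup G)
        rw [Sylow.coe_subgroup_smul, Subgroup.mem_smul_pointwise_iff_exists]
        exact ⟨y, hy, rfl⟩)
      calc y * (m⁻¹ * c * m) = m⁻¹ * (m * y * m⁻¹ * c) * m := by group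
        _ = m⁻¹ * (c * (m * y * m⁻¹)) * m := by rw [h2]
        _ = m⁻¹ * c * m * y := by group
    have := mul_mem (mul_mem hm (hCM hc')) (inv_mem hm)
    simpa [mul_assoc] using this
  have hAB : A = B := h.unique_le hM hA hB (hCA ▸ hCM) hBM
  refine Sylow.smul_eq_iff_mem_normalizer.1 (Sylow.ext ?_)
  apply Subgroup.eq_of_le_of_card_ge ?_ (Nat.card_congr (Sylow.equiv (m • P) P).toEquiv).ge
  intro x hx
  have hxC : x ∈ Subgroup.centralizer ((P : Subgroup G) : Set G) := by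
    rw [hCA, hAB]; exact hQB hx
  have hnorm : Subgroup.zpowers x ≤ Subgroup.normalizer ((P : Subgroup G) : Set G) :=
    Subgroup.zpowers_le.2 (Subgroup.centralizer_le_normalizer _ hxC)
  obtain ⟨k, hk⟩ := IsPGroup.iff_orderOf.1 (m • P : Sylow p G).isPGroup' ⟨x, hx⟩
  rw [← Subgroup.orderOf_coe] at hk
  have hp : IsPGroup p ↥(Subgroup.zpowers x ⊔ (P : Subgroup G)) :=
    IsPGroup.to_sup_of_normal_right' (IsPGroup.of_card (n := k) (by rw [Nat.card_zpowers]; exact hk))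
      P.isPGroup' hnorm
  exact P.3 hp le_sup_right ▸ Subgroup.mem_sup_left (Subgroup.mem_zpowers x)

theorem MinCover.isCoatom_normalizer (h : MinCover 𝓐) (hZ : Subgroup.center G = ⊥) (P : Sylow p G)
    (hab : IsMulCommutative ↥(P : Subgroup G)) (hnn : ¬ (P : Subgroup G).Normal)
    (hP : IsCyclic ↥(P : Subgroup G) ∨ ∃ x ∈ (P : Subgroup G), x ^ p ≠ 1) :
    IsCoatom (Subgroup.normalizer ((P : Subgroup G) : Set G)) ∧
      ∀ M : Subgroup G, IsCoatom M → Subgroup.centralizer ((P : Subgroup G) : Set G) ≤ M →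
        M = Subgroup.normalizer ((P : Subgroup G) : Set G) := by
  have hP1 : (P : Subgroup G) ≠ ⊥ := fun hb => hnn (hb ▸ Subgroup.normal_bot)
  have hN : Subgroup.normalizer ((P : Subgroup G) : Set G) ≠ ⊤ := fun h' =>
    hnn (Subgroup.normalizer_eq_top_iff.1 h')
  refine ⟨⟨hN, fun M hM => by_contra fun hne => ?_⟩, fun M hM hCM => ?_⟩
  · exact absurd (h.le_normalizer hZ P hab hP1 hP hne
      ((Subgroup.centralizer_le_normalizer _).trans hM.le)) (not_le_of_gt hM)
  · exact (hM.le_iff_eq hN).1 (h.le_normalizer hZ P hab hP1 hP hM.1 hCM) |>.symm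

end CfsgLib.NilCover
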